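import Cfsg.Agent.H3.VecModel

/-! Generated permutation table, new letters and stabiliser chain. -/

set_option autoImplicit false
set_option maxRecDepth 100000

open Cfsg.Agent.L0

namespace Cfsg.Agent.H3.S62

noncomputable def Trowt0 : BT := .leaf (nat_lit 0xfbcef6f3783cdbefb9f7bf3aef987ae7df77f3ef77dbef36fbcf3aefdfb9ebdefbefbef6eb9dfde7b8f9f7a77ce7adbbf7ae7deb973ee38e38e38e38e38d38df6ebcfb6df7df767ddb7e7edfc8bef3663ba67d68cedd73932d74a26d29c2fb30971e35cecc2da35ce4d6e2739e9ca6baacaf8f50b19a8c67b2bc2d8b4c72c2ecefa74c65d2c1f0beab70d299e3cab16fbb0b2a9b2ba1a73baeb6bbf3d68b62c6a0edb33bab9f1d20a30b2caedaacc67a5f9efaebaafaeeca6a9e9adaaad72a74bf0aee867368d31a35b73a2c826a29cb59f1aecbeb7e99e6c749b2aae9aa7a80278a395e8e1974c256a58e291f8a0935ce45a49258e17a5eb2be38e39648a07e4db1b628a27de86395ef69ba13e179f82291ffa8b203a08607e48227e7adf7df8217a58637a6a9e79e5dd65b5937562d5e9d55c61250e414257e5c65b5dd4d66d30d86db6906905584876539546d975744f4da1d2dd949871569061129bd987576d93d159021c5d75935936dd5cb75091171549841a54f15d55550e50e49c50970f51a4d64d675b6436da4cf61255c39468e19949244f44f5d944a60e45641a41a6157085d640e3d13d16573c555485339439471238649181034d34d34d34408da4d30c30c30c30004c30c14328b0c309d58b2c70c52ca20829844a2892061c918611c509cca24718828a2174082031882471451d9687c0b1c92062490123861852ca0c51c71553c5bc610410408224234410428b1432cb05b4c3b480820821042cd102c820410410000cc001041000000041181300980)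

noncomputable def Trowtree : BT := Trowt0

noncomputable def Trow : ℕ → ℕ := rowOf Trowtree (nat_lit 6) (nat_lit 63) (nat_lit 72) (nat_lit 0xffffffffffffffffff)

noncomputable def T : ℕ → ℕ → ℕ := pT Trow (nat_lit 6) (nat_lit 63)

/-- definitions of the new letters -/
def D : List (List ℕ) := [[nat_lit 3, nat_lit 4],
  [nat_lit 1, nat_lit 2, nat_lit 3, nat_lit 1, nat_lit 4, nat_lit 2, nat_lit 1, nat_lit 5],
  [nat_lit 3, nat_lit 5, nat_lit 3, nat_lit 0, nat_lit 4, nat_lit 0, nat_lit 5, nat_lit 3, nat_lit 6],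
  [nat_lit 6, nat_lit 7],
  [nat_lit 6, nat_lit 6, nat_lit 8],
  [nat_lit 6, nat_lit 0, nat_lit 7, nat_lit 9],
  [nat_lit 6, nat_lit 5, nat_lit 6, nat_lit 0, nat_lit 7, nat_lit 0, nat_lit 5, nat_lit 10],
  [nat_lit 5, nat_lit 0, nat_lit 6, nat_lit 5, nat_lit 7, nat_lit 0, nat_lit 5, nat_lit 11]]

/-- the relators -/
def R : List (List ℕ) := [[nat_lit 0, nat_lit 0],
  [nat_lit 1, nat_lit 1],
  [nat_lit 2, nat_lit 2],
  [nat_lit 3, nat_lit 4],
  [nat_lit 4, nat_lit 3],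
  [nat_lit 5, nat_lit 5],
  [nat_lit 6, nat_lit 7],
  [nat_lit 7, nat_lit 6],
  [nat_lit 8, nat_lit 8],
  [nat_lit 9, nat_lit 9],
  [nat_lit 10, nat_lit 10],
  [nat_lit 11, nat_lit 11],
  [nat_lit 1, nat_lit 2, nat_lit 3, nat_lit 1, nat_lit 4, nat_lit 2, nat_lit 1, nat_lit 5],
  [nat_lit 3, nat_lit 5, nat_lit 3, nat_lit 0, nat_lit 4, nat_lit 0, nat_lit 5, nat_lit 3, nat_lit 6],
  [nat_lit 6, nat_lit 6, nat_lit 8],
  [nat_lit 6, nat_lit 0, nat_lit 7, nat_lit 9],
  [nat_lit 6, nat_lit 5, nat_lit 6, nat_lit 0, nat_lit 7, nat_lit 0, nat_lit 5, nat_lit 10],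
  [nat_lit 5, nat_lit 0, nat_lit 6, nat_lit 5, nat_lit 7, nat_lit 0, nat_lit 5, nat_lit 11],
  [nat_lit 0, nat_lit 9, nat_lit 0, nat_lit 9],
  [nat_lit 2, nat_lit 0, nat_lit 2, nat_lit 0],
  [nat_lit 2, nat_lit 9, nat_lit 2, nat_lit 9],
  [nat_lit 8, nat_lit 0, nat_lit 8, nat_lit 0],
  [nat_lit 8, nat_lit 2, nat_lit 8, nat_lit 2],
  [nat_lit 8, nat_lit 9, nat_lit 8, nat_lit 9],
  [nat_lit 10, nat_lit 0, nat_lit 10, nat_lit 0],
  [nat_lit 10, nat_lit 2, nat_lit 10, nat_lit 2],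
  [nat_lit 10, nat_lit 8, nat_lit 10, nat_lit 8],
  [nat_lit 10, nat_lit 9, nat_lit 10, nat_lit 9],
  [nat_lit 11, nat_lit 0, nat_lit 11, nat_lit 0],
  [nat_lit 11, nat_lit 2, nat_lit 11, nat_lit 2],
  [nat_lit 11, nat_lit 8, nat_lit 11, nat_lit 8],
  [nat_lit 11, nat_lit 9, nat_lit 11, nat_lit 9],
  [nat_lit 11, nat_lit 10, nat_lit 11, nat_lit 10],
  [nat_lit 5, nat_lit 2, nat_lit 5, nat_lit 2],
  [nat_lit 5, nat_lit 8, nat_lit 5, nat_lit 8],
  [nat_lit 5, nat_lit 0, nat_lit 5, nat_lit 0, nat_lit 5, nat_lit 0],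
  [nat_lit 5, nat_lit 11, nat_lit 5, nat_lit 11, nat_lit 5, nat_lit 11],
  [nat_lit 3, nat_lit 3, nat_lit 3],
  [nat_lit 3, nat_lit 0, nat_lit 4, nat_lit 9],
  [nat_lit 2, nat_lit 4, nat_lit 6, nat_lit 11, nat_lit 4, nat_lit 6],
  [nat_lit 3, nat_lit 5, nat_lit 4, nat_lit 5, nat_lit 3, nat_lit 5, nat_lit 4, nat_lit 5],
  [nat_lit 1, nat_lit 9, nat_lit 1, nat_lit 9],
  [nat_lit 1, nat_lit 5, nat_lit 1, nat_lit 5, nat_lit 1, nat_lit 5],
  [nat_lit 1, nat_lit 4, nat_lit 6, nat_lit 1, nat_lit 4, nat_lit 6],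
  [nat_lit 0, nat_lit 1, nat_lit 6, nat_lit 1, nat_lit 5, nat_lit 1, nat_lit 11, nat_lit 7, nat_lit 1, nat_lit 10]]

/-- the base -/
def B : List ℕ := [nat_lit 56, nat_lit 12, nat_lit 0, nat_lit 30, nat_lit 38, nat_lit 42]

/-- the base known in advance -/
def Bf : List ℕ := [nat_lit 42, nat_lit 0, nat_lit 1, nat_lit 2, nat_lit 3, nat_lit 14, nat_lit 30]

noncomputable def dchkf : ℕ → Bool := defChk T (nat_lit 63) D

noncomputable def info5t0 : BT := .leaf (nat_lit 0x8)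

noncomputable def info5tree : BT := info5t0

noncomputable def info5 : ℕ → ℕ := rowOf info5tree (nat_lit 3) (nat_lit 7) (nat_lit 2) (nat_lit 0x3)

def S5 : List (List ℕ) := [[nat_lit 9]]

noncomputable def lev5f : ℕ → Bool := RAct.levI T S5 info5 (nat_lit 1) (nat_lit 1) (nat_lit 42) (nat_lit 2) (nat_lit 42)

noncomputable def info4t0 : BT := .leaf (nat_lit 0x9540)

noncomputable def info4tree : BT := info4t0

noncomputable def info4 : ℕ → ℕ := rowOf info4tree (nat_lit 3) (nat_lit 7) (nat_lit 4) (nat_lit 0xf)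

def S4 : List (List ℕ) := [[nat_lit 0],
  [nat_lit 2],
  [nat_lit 9]]

noncomputable def lev4f : ℕ → Bool := RAct.levI T S4 info4 (nat_lit 3) (nat_lit 2) (nat_lit 38) (nat_lit 4) (nat_lit 38)

noncomputable def info3t0 : BT := .leaf (nat_lit 0x57695636a0)

noncomputable def info3tree : BT := info3t0

noncomputable def info3 : ℕ → ℕ := rowOf info3tree (nat_lit 3) (nat_lit 7) (nat_lit 5) (nat_lit 0x1f)

def S3 : List (List ℕ) := [[nat_lit 0],
  [nat_lit 2],
  [nat_lit 8],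
  [nat_lit 9],
  [nat_lit 10],
  [nat_lit 11]]

noncomputable def lev3f : ℕ → Bool := RAct.levI T S3 info3 (nat_lit 7) (nat_lit 3) (nat_lit 30) (nat_lit 8) (nat_lit 30)

noncomputable def info2t0 : BT := .leaf (nat_lit 0x70dd22650490324508a00)

noncomputable def info2tree : BT := info2t0

noncomputable def info2 : ℕ → ℕ := rowOf info2tree (nat_lit 4) (nat_lit 15) (nat_lit 7) (nat_lit 0x7f)

def S2 : List (List ℕ) := [[nat_lit 0],
  [nat_lit 2],
  [nat_lit 5],
  [nat_lit 6],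
  [nat_lit 7],
  [nat_lit 8],
  [nat_lit 9],
  [nat_lit 10],
  [nat_lit 11]]

noncomputable def lev2f : ℕ → Bool := RAct.levI T S2 info2 (nat_lit 15) (nat_lit 4) (nat_lit 0) (nat_lit 12) (nat_lit 0)

noncomputable def info1t0 : BT := .leaf (nat_lit 0x22c56506241851e14766ca1c380ce9006ce9b307491c444910992)

noncomputable def info1tree : BT := info1t0

noncomputable def info1 : ℕ → ℕ := rowOf info1tree (nat_lit 5) (nat_lit 31) (nat_lit 7) (nat_lit 0x7f)

def S1 : List (List ℕ) := [[nat_lit 0],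
  [nat_lit 2],
  [nat_lit 3],
  [nat_lit 4],
  [nat_lit 5],
  [nat_lit 6],
  [nat_lit 7],
  [nat_lit 8],
  [nat_lit 9],
  [nat_lit 10],
  [nat_lit 11]]

noncomputable def lev1f : ℕ → Bool := RAct.levI T S1 info1 (nat_lit 15) (nat_lit 4) (nat_lit 0) (nat_lit 30) (nat_lit 12)

noncomputable def info0t0 : BT := .leaf (nat_lit 0x1162d4a116c80ad1501166c91234ee9ba56ee942b74a92346cd1bb390e2a53acc6247ab06340851684883058c4812a0ca632d8c383061b1)

noncomputable def info0tree : BT := info0t0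

noncomputable def info0 : ℕ → ℕ := rowOf info0tree (nat_lit 6) (nat_lit 63) (nat_lit 7) (nat_lit 0x7f)

def S0 : List (List ℕ) := [[nat_lit 0],
  [nat_lit 1],
  [nat_lit 2],
  [nat_lit 3],
  [nat_lit 4],
  [nat_lit 5],
  [nat_lit 6],
  [nat_lit 7],
  [nat_lit 8],
  [nat_lit 9],
  [nat_lit 10],
  [nat_lit 11]]

noncomputable def lev0f : ℕ → Bool := RAct.levI T S0 info0 (nat_lit 15) (nat_lit 4) (nat_lit 0) (nat_lit 63) (nat_lit 56)

theorem dchkb0 : allR dchkf 6 0 = true := by decide +kernel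
theorem lev5b0 : allR lev5f 1 0 = true := by decide +kernel
theorem lev4b0 : allR lev4f 2 0 = true := by decide +kernel
theorem lev3b0 : allR lev3f 3 0 = true := by decide +kernel
theorem lev2b0 : allR lev2f 4 0 = true := by decide +kernel
theorem lev1b0 : allR lev1f 5 0 = true := by decide +kernel
theorem lev0b0 : allR lev0f 6 0 = true := by decide +kernel

theorem dchk : ∀ c < 63, dchkf c = true := fun c hc =>
  allR_glue (d := 6) (n := 1) (forall_lt_succ' forall_lt_zero' dchkb0) c (lt_of_lt_of_le hc (by norm_num))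

theorem lev5 : ∀ c < 2, lev5f c = true := fun c hc =>
  allR_glue (d := 1) (n := 1) (forall_lt_succ' forall_lt_zero' lev5b0) c (lt_of_lt_of_le hc (by norm_num))

theorem lev4 : ∀ c < 4, lev4f c = true := fun c hc =>
  allR_glue (d := 2) (n := 1) (forall_lt_succ' forall_lt_zero' lev4b0) c (lt_of_lt_of_le hc (by norm_num))

theorem lev3 : ∀ c < 8, lev3f c = true := fun c hc =>
  allR_glue (d := 3) (n := 1) (forall_lt_succ' forall_lt_zero' lev3b0) c (lt_of_lt_of_le hc (by norm_num))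

theorem lev2 : ∀ c < 12, lev2f c = true := fun c hc =>
  allR_glue (d := 4) (n := 1) (forall_lt_succ' forall_lt_zero' lev2b0) c (lt_of_lt_of_le hc (by norm_num))

theorem lev1 : ∀ c < 30, lev1f c = true := fun c hc =>
  allR_glue (d := 5) (n := 1) (forall_lt_succ' forall_lt_zero' lev1b0) c (lt_of_lt_of_le hc (by norm_num))

theorem lev0 : ∀ c < 63, lev0f c = true := fun c hc =>
  allR_glue (d := 6) (n := 1) (forall_lt_succ' forall_lt_zero' lev0b0) c (lt_of_lt_of_le hc (by norm_num))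

theorem ext {G : Type*} [Group G] {A : RAct G 63} {g : ℕ → G} (h : A.Tab g 4 T) :
    ∃ g' : ℕ → G, (∀ i < 4, g' i = g i) ∧ A.Tab g' 12 T ∧
      genL g' (List.range 12) = genL g (List.range 4) :=
  tab_extend' h (D := D) (by decide +kernel) (by decide +kernel) le_rfl dchk

/-- the levels -/
def L : List (ℕ × ℕ × ℕ) := [(nat_lit 56, nat_lit 0, nat_lit 63), (nat_lit 12, nat_lit 0, nat_lit 30), (nat_lit 0, nat_lit 0, nat_lit 12), (nat_lit 30, nat_lit 30, nat_lit 8), (nat_lit 38, nat_lit 38, nat_lit 4), (nat_lit 42, nat_lit 42, nat_lit 2)]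

theorem chain {G : Type*} [Group G] {A : RAct G 63} {x : ℕ → G} (h : A.Tab x 12 T) :
    A.Chain ⊤ [] (ivl L) :=
  chain_cons h (by decide +kernel) lev0
    (chain_cons h (by decide +kernel) lev1
    (chain_cons h (by decide +kernel) lev2
    (chain_cons h (by decide +kernel) lev3
    (chain_cons h (by decide +kernel) lev4
    (chain_cons h (by decide +kernel) lev5
    (chain_nil))))))

end Cfsg.Agent.H3.S62
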