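import Cfsg.Agent.L0.CosetChain

/-! Generated coset table certificate. -/

set_option autoImplicit false
set_option maxRecDepth 100000

open Cfsg.Agent.L0

namespace Cfsg.Agent.H3.S62.Tc0

noncomputable def t0 : BT := .node (.node (.node (.leaf (nat_lit 0x5308001b718f30c62042408932d022d5424c2592001a30c84e20d9439907116c1989112821821021000c91c590832043a0c3a6105cb180060833884208425420885108314810a831c005cc51928830b2266aac30a002c002a0029860a4084610d068a0026a18a904142ca23cb80c422d0234700124106328f0011204256c420cc4620918480082861a1a590a70007a0e180070006800629c1902121104002c00290208002483180020001c0018001400108104000c90802002200220022002200220022002200220022002000420020000)) (.leaf (nat_lit 0x24676728283b30a9205340aa56a888b7583326ba862332288e295a143b939c34939dabb893f21029abf894d83a7321b3a2b3c6149dae99b98a8e09ae4a5dd54ad1494814cd25c949c9af9489a20a48b4a913f044acd3e53704e744acc7344747440a68dca51570c52362425f152242831282757bb486424a134bb282b57a4205382291a11aa3f001f9219001f317e9028b8d9001ea2719334001e46140a6cd8db9076a1e88a0b8debb29d982e8a794de88813c8fbe109d31de9160422e8fc252e13060f6680076a8c92ec2409c4867084d)))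 (.node (.leaf (nat_lit 0x931820468287511b240a338c435824145389228e33186198762280180017a0709bab93ad39ed2b8b92731229bb8b902300173211611654f51c758811483508254cd591128976d0e5992598459c8884a9a470a622a41a841ac608a005a44186510c7aaa7aa642ae044556024163154309520454096002c244943d84414002b31d46e223ae9a3f520e98015001480140013b20b80130012902280123211191488f3cd36c8d1c81110b41cf2518810d4255219948c449b8864b8a4c9ac72247b247c0c69a00464088661e8922a122a222d043)) (.leaf (nat_lit 0x2b793b3839e629fa29df79658af8205f2a2e9a69296d5278a82f1bbb9295a93ba455949c9493247b94b994743438bcbb902fd1179abd8ead8ebd8ecd8ac755674aa8883d481756bd92bda6bda28b896ea76ea76ea766a566ad5eb156a40ba616d166ab5eaa2eb105c6bb43b7467f438b4289e52de2b61281e205c5bb44bb438f48a2d9cb1102d11f72bd99477c437dc7994341c9b9bd99d39c1f0cb16593c8cff4dbf0cf8c8ff50ff8816489f4878d52c913c89bfe30b14ce2cb4884626fc849766f4ec9625460504e516e40b34ed50858)))) (.node (.node (.leaf (nat_lit 0x238c2043511042842312a2072308239236a022497250708a762139c799c910e418a71021c965b96791a89162116d80111887b7109cd38891d8218863c8f2e040ccc388334810d896000860639a8850a2b0c22c39a00404722c4334b1a4086611d079a003ea21ad042335031c9510c224a335824db918c228861d52043001e40846621102121c2506591c1918791c75165a9a399ec91c533859984ac1048c10810a43294831116c8f60ca28d56c9258cd2c00748341588305864418e19240844190418c482447b06828c42000384696a441))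 (.leaf (nat_lit 0x205728e128ef48f0286129212a5d596739f1b77069b0385a982b1490902bac5823f794599459dbd7955cb4f533b79cf7b9d14b158a3688e8a4ecd1eb8dd889f88ac7927e12a7cddb9a8b8815e08ac86da4efe6cfc42d84cfe6cf840aa4cfe4958a85ab2718bfb185453ac467c373d612d26fc267f2054746d367f36ec37ac267e8c299c75b27ba0d5947b92b33b1cb235ac8d1cd4bbf2102a2432c214cdfa8a04dc8a8814c83a082a4dceca8bceae4a47d1ea89ec648a4ae76aed2514e41d041d460a66dd253d641b4557071d264d32052))) (.node (.leaf (nat_lit 0x259426997220204d2299239135e026d0265244206720616092262b8f9472a10f9372801d14dc001c9577001c1c751026801bc2131ad78ee790578e2788cd1a1d1abb99d70dfd16d788130e07a1096d53a763a823a763a4bed75ecd460006c006ab53a4095353ac84947dc37dc411c375c275c771c569c0034279e77dc2049379c642429ad9024128910ac12861a45218da2cb12c521479b4db88dbb11ce2b800cc8888dd68905ddc5d4d6982a4a5ace3688120a2c1908e492cacc0c3b26722449a84c000644816408f08b200626532d446)) (.leaf (nat_lit 0x4a3fa3969031937e135643169b9f93562b169b9fbb9ddb595a18a93f8928c9ab48df490c8c18ccff8dbf89cf91af9999998b2c0c46cfa48644ed8667c4646c765077a40c664646cfaadfa4c5b506243fc26ac273236bf462d46ac917c943c247c353c377c2063a23113b4bbbd9bf43b7393f22a3893b512721030933c93bfa37dd51809b99dde8e4e4e6e09d94c17d1be8a994838a99a0e6e91beac0bc9670ae7252f46ccc4cd691ee40be55d494deec768bf26d73585e))))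

noncomputable def tree : BT := t0

noncomputable def row : ℕ → ℕ := rowOf tree (nat_lit 3) (nat_lit 7) (nat_lit 209) (nat_lit 0x1ffffffffffffffffffffffffffffffffffffffffffffffffffff)

noncomputable def cols : List Col := [⟨nat_lit 17, nat_lit 1, [([nat_lit 17], nat_lit 0), ([nat_lit 129, nat_lit 161, nat_lit 113], nat_lit 0), ([nat_lit 49, nat_lit 17, nat_lit 49], nat_lit 0), ([nat_lit 81, nat_lit 161, nat_lit 65], nat_lit 0), ([nat_lit 145, nat_lit 17, nat_lit 145], nat_lit 0), ([nat_lit 177, nat_lit 17, nat_lit 177], nat_lit 0), ([nat_lit 161, nat_lit 17, nat_lit 161], nat_lit 0), ([nat_lit 97, nat_lit 17, nat_lit 97, nat_lit 17, nat_lit 97], nat_lit 0), ([nat_lit 129, nat_lit 17, nat_lit 97, nat_lit 177, nat_lit 113, nat_lit 97, nat_lit 113], nat_lit 0), ([nat_lit 97, nat_lit 177, nat_lit 113, nat_lit 97, nat_lit 113, nat_lit 17, nat_lit 129], nat_lit 0), ([nat_lit 113, nat_lit 97, nat_lit 129, nat_lit 17, nat_lit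 97, nat_lit 193, nat_lit 97], nat_lit 0)]⟩,
  ⟨nat_lit 33, nat_lit 0, [([nat_lit 33], nat_lit 0), ([nat_lit 161, nat_lit 33, nat_lit 161], nat_lit 0), ([nat_lit 97, nat_lit 33, nat_lit 97, nat_lit 33, nat_lit 97], nat_lit 0), ([nat_lit 81, nat_lit 49, nat_lit 33, nat_lit 97, nat_lit 33, nat_lit 49, nat_lit 65], nat_lit 0), ([nat_lit 81, nat_lit 113, nat_lit 33, nat_lit 81, nat_lit 113], nat_lit 0), ([nat_lit 113, nat_lit 33, nat_lit 97, nat_lit 33, nat_lit 193, nat_lit 129, nat_lit 33, nat_lit 177, nat_lit 17], nat_lit 0), ([nat_lit 97, nat_lit 33, nat_lit 193, nat_lit 129, nat_lit 33, nat_lit 177, nat_lit 17, nat_lit 33, nat_lit 113], nat_lit 0)]⟩,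
  ⟨nat_lit 49, nat_lit 1, [([nat_lit 49], nat_lit 0), ([nat_lit 17, nat_lit 49, nat_lit 17], nat_lit 0), ([nat_lit 145, nat_lit 49, nat_lit 145], nat_lit 0), ([nat_lit 97, nat_lit 49, nat_lit 97], nat_lit 0), ([nat_lit 177, nat_lit 49, nat_lit 177], nat_lit 0), ([nat_lit 65, nat_lit 33, nat_lit 81, nat_lit 49, nat_lit 33, nat_lit 97, nat_lit 33], nat_lit 0), ([nat_lit 81, nat_lit 113, nat_lit 193, nat_lit 81, nat_lit 113], nat_lit 0), ([nat_lit 161, nat_lit 49, nat_lit 161], nat_lit 0), ([nat_lit 33, nat_lit 97, nat_lit 33, nat_lit 49, nat_lit 65, nat_lit 33, nat_lit 81], nat_lit 0), ([nat_lit 193, nat_lit 49, nat_lit 193], nat_lit 0)]⟩,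
  ⟨nat_lit 65, nat_lit 1, [([nat_lit 81], nat_lit 0), ([nat_lit 65, nat_lit 65], nat_lit 0), ([nat_lit 97, nat_lit 65, nat_lit 17, nat_lit 81, nat_lit 17, nat_lit 97, nat_lit 65, nat_lit 113], nat_lit 0), ([nat_lit 17, nat_lit 81, nat_lit 161], nat_lit 0), ([nat_lit 113, nat_lit 65, nat_lit 97, nat_lit 65, nat_lit 17, nat_lit 81, nat_lit 17, nat_lit 97], nat_lit 0)]⟩,
  ⟨nat_lit 81, nat_lit 1, [([nat_lit 65], nat_lit 0), ([nat_lit 161, nat_lit 65, nat_lit 17], nat_lit 0), ([nat_lit 113, nat_lit 193, nat_lit 81, nat_lit 113, nat_lit 49], nat_lit 0), ([nat_lit 113, nat_lit 49, nat_lit 81, nat_lit 113, nat_lit 193], nat_lit 0), ([nat_lit 113, nat_lit 33, nat_lit 81, nat_lit 113, nat_lit 33], nat_lit 0), ([nat_lit 97, nat_lit 65, nat_lit 97, nat_lit 81, nat_lit 97, nat_lit 65, nat_lit 97], nat_lit 0), ([nat_lit 49, nat_lit 33, nat_lit 97, nat_lit 33, nat_lit 49, nat_lit 65, nat_lit 33], nat_lit 0), ([nat_lit 17, nat_lit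 97, nat_lit 65, nat_lit 113, nat_lit 65, nat_lit 97, nat_lit 65, nat_lit 17], nat_lit 0)]⟩,
  ⟨nat_lit 97, nat_lit 1, [([nat_lit 97], nat_lit 0), ([nat_lit 145, nat_lit 97, nat_lit 145], nat_lit 0), ([nat_lit 49, nat_lit 97, nat_lit 49], nat_lit 0), ([nat_lit 33, nat_lit 97, nat_lit 33, nat_lit 97, nat_lit 33], nat_lit 0), ([nat_lit 33, nat_lit 49, nat_lit 65, nat_lit 33, nat_lit 81, nat_lit 49, nat_lit 33], nat_lit 0), ([nat_lit 129, nat_lit 17, nat_lit 97, nat_lit 193, nat_lit 97, nat_lit 17, nat_lit 113], nat_lit 0), ([nat_lit 81, nat_lit 97, nat_lit 65, nat_lit 97, nat_lit 81, nat_lit 97, nat_lit 65], nat_lit 0), ([nat_lit 17, nat_lit 97, nat_lit 17, nat_lit 97, nat_lit 17], nat_lit 0), ([nat_lit 193, nat_lit 97, nat_lit 193, nat_lit 97, nat_lit 193], nat_lit 0), ([nat_lit 177, nat_lit 113, nat_lit 97, nat_lit 113, nat_lit 17, nat_lit 129, nat_lit 17], nat_lit 0), ([nat_lit 65, nat_lit 97, nat_lit 81, nat_lit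 97, nat_lit 65, nat_lit 97, nat_lit 81], nat_lit 0)]⟩,
  ⟨nat_lit 113, nat_lit 1, [([nat_lit 113, nat_lit 145], nat_lit 0), ([nat_lit 129], nat_lit 0), ([nat_lit 145, nat_lit 113], nat_lit 0), ([nat_lit 33, nat_lit 81, nat_lit 113, nat_lit 33, nat_lit 81], nat_lit 0), ([nat_lit 65, nat_lit 97, nat_lit 65, nat_lit 17, nat_lit 81, nat_lit 17, nat_lit 97, nat_lit 65], nat_lit 0), ([nat_lit 33, nat_lit 97, nat_lit 33, nat_lit 193, nat_lit 129, nat_lit 33, nat_lit 177, nat_lit 17, nat_lit 33], nat_lit 0), ([nat_lit 17, nat_lit 129, nat_lit 161], nat_lit 0), ([nat_lit 193, nat_lit 81, nat_lit 113, nat_lit 49, nat_lit 81], nat_lit 0), ([nat_lit 97, nat_lit 113, nat_lit 17, nat_lit 129, nat_lit 17, nat_lit 97, nat_lit 177], nat_lit 0), ([nat_lit 97, nat_lit 129, nat_lit 17, nat_lit 97, nat_lit 193, nat_lit 97, nat_lit 17], nat_lit 0)]⟩,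
  ⟨nat_lit 129, nat_lit 1, [([nat_lit 113], nat_lit 0), ([nat_lit 161, nat_lit 113, nat_lit 17], nat_lit 0), ([nat_lit 17, nat_lit 97, nat_lit 177, nat_lit 113, nat_lit 97, nat_lit 113, nat_lit 17], nat_lit 0), ([nat_lit 33, nat_lit 177, nat_lit 17, nat_lit 33, nat_lit 113, nat_lit 33, nat_lit 97, nat_lit 33, nat_lit 193], nat_lit 0)]⟩,
  ⟨nat_lit 145, nat_lit 1, [([nat_lit 145], nat_lit 0), ([nat_lit 113, nat_lit 113], nat_lit 0), ([nat_lit 17, nat_lit 145, nat_lit 17], nat_lit 0), ([nat_lit 177, nat_lit 145, nat_lit 177], nat_lit 0), ([nat_lit 97, nat_lit 145, nat_lit 97], nat_lit 0), ([nat_lit 49, nat_lit 145, nat_lit 49], nat_lit 0), ([nat_lit 161, nat_lit 145, nat_lit 161], nat_lit 0)]⟩,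
  ⟨nat_lit 161, nat_lit 1, [([nat_lit 161], nat_lit 0), ([nat_lit 113, nat_lit 17, nat_lit 129], nat_lit 0), ([nat_lit 33, nat_lit 161, nat_lit 33], nat_lit 0), ([nat_lit 17, nat_lit 161, nat_lit 17], nat_lit 0), ([nat_lit 65, nat_lit 17, nat_lit 81], nat_lit 0), ([nat_lit 145, nat_lit 161, nat_lit 145], nat_lit 0), ([nat_lit 49, nat_lit 161, nat_lit 49], nat_lit 0), ([nat_lit 177, nat_lit 161, nat_lit 177], nat_lit 0), ([nat_lit 193, nat_lit 161, nat_lit 193], nat_lit 0)]⟩,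
  ⟨nat_lit 177, nat_lit 1, [([nat_lit 177], nat_lit 0), ([nat_lit 113, nat_lit 97, nat_lit 113, nat_lit 17, nat_lit 129, nat_lit 17, nat_lit 97], nat_lit 0), ([nat_lit 17, nat_lit 177, nat_lit 17], nat_lit 0), ([nat_lit 145, nat_lit 177, nat_lit 145], nat_lit 0), ([nat_lit 17, nat_lit 33, nat_lit 113, nat_lit 33, nat_lit 97, nat_lit 33, nat_lit 193, nat_lit 129, nat_lit 33], nat_lit 0), ([nat_lit 49, nat_lit 177, nat_lit 49], nat_lit 0), ([nat_lit 193, nat_lit 177, nat_lit 193], nat_lit 0)]⟩,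
  ⟨nat_lit 193, nat_lit 1, [([nat_lit 193], nat_lit 0), ([nat_lit 17, nat_lit 193, nat_lit 17], nat_lit 0), ([nat_lit 97, nat_lit 17, nat_lit 113, nat_lit 97, nat_lit 129, nat_lit 17, nat_lit 97], nat_lit 0), ([nat_lit 145, nat_lit 193, nat_lit 145], nat_lit 0), ([nat_lit 97, nat_lit 193, nat_lit 97, nat_lit 193, nat_lit 97], nat_lit 0), ([nat_lit 49, nat_lit 193, nat_lit 49], nat_lit 0), ([nat_lit 81, nat_lit 113, nat_lit 49, nat_lit 81, nat_lit 113], nat_lit 0), ([nat_lit 161, nat_lit 193, nat_lit 161], nat_lit 0), ([nat_lit 177, nat_lit 193, nat_lit 177], nat_lit 0), ([nat_lit 129, nat_lit 33, nat_lit 177, nat_lit 17, nat_lit 33, nat_lit 113, nat_lit 33, nat_lit 97, nat_lit 33], nat_lit 0)]⟩]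

noncomputable def erots : List (List ℕ × ℕ) := []

noncomputable def gens : List ℕ := [nat_lit 17, nat_lit 33, nat_lit 49, nat_lit 65, nat_lit 81, nat_lit 97, nat_lit 113, nat_lit 129, nat_lit 145, nat_lit 161, nat_lit 177, nat_lit 193]

noncomputable def chk : ℕ → Bool := chkRow0 row (nat_lit 63) (nat_lit 0x3f) (nat_lit 0xfc0) (nat_lit 12) (nat_lit 0xf) (nat_lit 0) (nat_lit 0x3f) (nat_lit 6) (nat_lit 0xff) (nat_lit 0x1c000) [] cols gens

theorem b0 : allR chk 6 0 = true := by decide +kernel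

noncomputable def T : CT := ⟨row, nat_lit 63, nat_lit 63, nat_lit 0x3f, nat_lit 0xfc0, nat_lit 12, nat_lit 0xf, nat_lit 0, nat_lit 0x3f, nat_lit 6, nat_lit 0xff, nat_lit 0x1c000, nat_lit 209, nat_lit 209, nat_lit 0, nat_lit 10, [], cols, erots, gens⟩

theorem all : ∀ c < 63, chk c = true := fun c hc =>
  allR_glue (d := 6) (n := 1) (forall_lt_succ' forall_lt_zero' b0) c (lt_of_lt_of_le hc (by norm_num))

/-- the relators used -/
def R : List (List ℕ) := [[nat_lit 0, nat_lit 0],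
  [nat_lit 1, nat_lit 1],
  [nat_lit 2, nat_lit 2],
  [nat_lit 3, nat_lit 4],
  [nat_lit 5, nat_lit 5],
  [nat_lit 6, nat_lit 7],
  [nat_lit 8, nat_lit 8],
  [nat_lit 9, nat_lit 9],
  [nat_lit 10, nat_lit 10],
  [nat_lit 11, nat_lit 11],
  [nat_lit 1, nat_lit 2, nat_lit 3, nat_lit 1, nat_lit 4, nat_lit 2, nat_lit 1, nat_lit 5],
  [nat_lit 3, nat_lit 5, nat_lit 3, nat_lit 0, nat_lit 4, nat_lit 0, nat_lit 5, nat_lit 3, nat_lit 6],
  [nat_lit 6, nat_lit 6, nat_lit 8],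
  [nat_lit 6, nat_lit 0, nat_lit 7, nat_lit 9],
  [nat_lit 6, nat_lit 5, nat_lit 6, nat_lit 0, nat_lit 7, nat_lit 0, nat_lit 5, nat_lit 10],
  [nat_lit 5, nat_lit 0, nat_lit 6, nat_lit 5, nat_lit 7, nat_lit 0, nat_lit 5, nat_lit 11],
  [nat_lit 0, nat_lit 9, nat_lit 0, nat_lit 9],
  [nat_lit 2, nat_lit 0, nat_lit 2, nat_lit 0],
  [nat_lit 2, nat_lit 9, nat_lit 2, nat_lit 9],
  [nat_lit 8, nat_lit 0, nat_lit 8, nat_lit 0],
  [nat_lit 8, nat_lit 2, nat_lit 8, nat_lit 2],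
  [nat_lit 8, nat_lit 9, nat_lit 8, nat_lit 9],
  [nat_lit 10, nat_lit 0, nat_lit 10, nat_lit 0],
  [nat_lit 10, nat_lit 2, nat_lit 10, nat_lit 2],
  [nat_lit 10, nat_lit 8, nat_lit 10, nat_lit 8],
  [nat_lit 10, nat_lit 9, nat_lit 10, nat_lit 9],
  [nat_lit 11, nat_lit 0, nat_lit 11, nat_lit 0],
  [nat_lit 11, nat_lit 2, nat_lit 11, nat_lit 2],
  [nat_lit 11, nat_lit 8, nat_lit 11, nat_lit 8],
  [nat_lit 11, nat_lit 9, nat_lit 11, nat_lit 9],
  [nat_lit 11, nat_lit 10, nat_lit 11, nat_lit 10],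
  [nat_lit 5, nat_lit 2, nat_lit 5, nat_lit 2],
  [nat_lit 5, nat_lit 8, nat_lit 5, nat_lit 8],
  [nat_lit 5, nat_lit 0, nat_lit 5, nat_lit 0, nat_lit 5, nat_lit 0],
  [nat_lit 5, nat_lit 11, nat_lit 5, nat_lit 11, nat_lit 5, nat_lit 11],
  [nat_lit 3, nat_lit 3, nat_lit 3],
  [nat_lit 3, nat_lit 0, nat_lit 4, nat_lit 9],
  [nat_lit 2, nat_lit 4, nat_lit 6, nat_lit 11, nat_lit 4, nat_lit 6],
  [nat_lit 3, nat_lit 5, nat_lit 4, nat_lit 5, nat_lit 3, nat_lit 5, nat_lit 4, nat_lit 5],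
  [nat_lit 1, nat_lit 9, nat_lit 1, nat_lit 9],
  [nat_lit 1, nat_lit 5, nat_lit 1, nat_lit 5, nat_lit 1, nat_lit 5],
  [nat_lit 1, nat_lit 4, nat_lit 6, nat_lit 1, nat_lit 4, nat_lit 6],
  [nat_lit 0, nat_lit 1, nat_lit 6, nat_lit 1, nat_lit 5, nat_lit 1, nat_lit 11, nat_lit 7, nat_lit 1, nat_lit 10]]

theorem cert : Cert T (R.map fun r => (r, 0)) ([0, 2, 3, 4, 5, 6, 7, 8, 9, 10, 11].map fun y => (y, 0)) 17 16 [0, 1, 2, 3, 4, 5, 6, 7, 8, 9, 10, 11] :=
  ⟨by decide +kernel, ⟨[[(0, 0), (13, 1), (17, 1), (36, 1), (19, 1), (22, 1), (16, 0), (33, 1), (14, 3), (14, 5), (15, 1)], [(1, 0), (39, 0), (40, 0), (10, 3), (41, 0), (42, 1), (42, 3)], [(2, 0), (17, 0), (20, 1), (31, 1), (23, 1), (10, 1), (37, 0), (18, 0), (10, 5), (27, 1)], [(3, 0), (35, 0), (11, 0), (36, 0), (11, 7)], [(3, 1), (36, 2), (37, 1), (37, 4), (41, 1), (38, 2), (10, 4), (11, 4)], [(4, 0), (32, 0), (31, 0), (40, 1), (10, 7), (15, 3), (38, 1), (33, 0),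 (34, 0), (14, 6), (38, 3)], [(12, 0), (5, 0), (12, 1), (41, 2), (11, 8), (42, 2), (13, 0), (37, 2), (14, 0), (15, 2)], [(5, 1), (13, 2), (14, 4), (42, 7)], [(6, 0), (12, 2), (19, 0), (24, 1), (32, 1), (20, 0), (21, 0)], [(7, 0), (13, 3), (39, 1), (16, 1), (36, 3), (21, 1), (18, 1), (25, 1), (29, 1)], [(8, 0), (14, 7), (22, 0), (24, 0), (42, 9), (23, 0), (30, 1)], [(9, 0), (26, 0), (15, 7), (28, 0), (34, 1), (27, 0), (37, 3), (29, 0), (30, 0), (42, 6)]], [], by decide +kernel⟩, by decide +kernel, Or.inl ⟨rfl, all⟩⟩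

theorem bound {Γ : Type*} [Group Γ] {x : ℕ → Γ} (hR : ∀ r ∈ R, ev x r = 1) {n : ℕ}
    (h : CardLe x [0, 2, 3, 4, 5, 6, 7, 8, 9, 10, 11] n) : CardLe x [0, 1, 2, 3, 4, 5, 6, 7, 8, 9, 10, 11] (63 * n) :=
  cert.cardLe rfl hR h

end Cfsg.Agent.H3.S62.Tc0
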