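import Cfsg.Agent.L0.CosetChain

/-! Generated coset table certificate. -/

set_option autoImplicit false
set_option maxRecDepth 100000

open Cfsg.Agent.L0

namespace Cfsg.Agent.H3.S62.Tc1

noncomputable def t0 : BT := .node (.node (.leaf (nat_lit 0x2968d220c38927524ce89d942410672048005c0003c68698336ce51d8a438016002a492000a10243090004c000001267a3235c693cc52a9462396e62d83300110020651800010246203001e8939443212522dc0038811800d00186594000108a4b6200168924005212422d200248110008000e849000000064b615346490d02191032104438800290622042860c000422329805204470892111022206418c00210213086e408000184227a01002200440088011002200440080030004200400008010000)) (.leaf (nat_lit 0x84f0496092c219843ba6874814801e2a3a89e000022588b68799ab2dcaad9d592a26944103b9cba39d640a0000549785c7472c721ca3b182725106154e38aba937eacb4000013fa910629e251d4e4a1a8820eca09cd5a94162752b3640004c558f266910f2d0a3a9c7128f4d0c88139473285e533400023548b66372694c166992902532d3dd646a3cf38a8409c00012dc85c666a492e9659147a28a849c5199204a31324c700001027820649aad345024145425247268a4b1070204c546c0002cd18985)))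 (.node (.leaf (nat_lit 0x3760754ca381ab32a6e49e4a6d902630a24bd800010ec87a5204a48998d7314f2454a7a9ce7bc1427e6a7bc000122976a4330c6994ce7916e204a851400e9bbb277866b8000118b6d4429eeb3b504c927b24d889f0a59906c204a92d0000346d698447187470a46001c003649364261025309a6fe800018d067a4204848a8cf4b14b234c6699c9595170035052c000416e76a33452692cc12294a339e683d925001920e4a528000486572e3249469908e591692048851000c1b9527ac6924000320f6d43)) (.leaf (nat_lit 0x5afc567913f157e2afc55795ef155d2070f5f80001d7ea99783ba487493ea19d2470a7e081734f83a7c877400021bd8b6d76f8b3b0a5e182c251a616cc3e2b8e37f66bc80002ab3910b69f2b4ecebb9a8d20f8a0b0e58141c279cd3c40003c9b8f2b38347348a4d1c922962515121d102b29ae50300001bd687aa2a3652e4c569537252109ce1dc90b2205453d40005c598989)))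

noncomputable def tree : BT := t0

noncomputable def row : ℕ → ℕ := rowOf tree (nat_lit 3) (nat_lit 7) (nat_lit 196) (nat_lit 0xfffffffffffffffffffffffffffffffffffffffffffffffff)

noncomputable def cols : List Col := [⟨nat_lit 16, nat_lit 1, [([nat_lit 16], nat_lit 0), ([nat_lit 76, nat_lit 151, nat_lit 61], nat_lit 0), ([nat_lit 91, nat_lit 16, nat_lit 91, nat_lit 16, nat_lit 91], nat_lit 0), ([nat_lit 121, nat_lit 151, nat_lit 106], nat_lit 0), ([nat_lit 151, nat_lit 16, nat_lit 151], nat_lit 0), ([nat_lit 136, nat_lit 16, nat_lit 136], nat_lit 0), ([nat_lit 106, nat_lit 91, nat_lit 121, nat_lit 16, nat_lit 91, nat_lit 181, nat_lit 91], nat_lit 0), ([nat_lit 91, nat_lit 61, nat_lit 106, nat_lit 61, nat_lit 91, nat_lit 61, nat_lit 16, nat_lit 76], nat_lit 0), ([nat_lit 46, nat_lit 16, nat_lit 46], nat_lit 0), ([nat_lit 76, nat_lit 16, nat_lit 91, nat_lit 61, nat_lit 106, nat_lit 61, nat_lit 91, nat_lit 61],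 nat_lit 0)]⟩,
  ⟨nat_lit 46, nat_lit 1, [([nat_lit 46], nat_lit 0), ([nat_lit 16, nat_lit 46, nat_lit 16], nat_lit 0), ([nat_lit 91, nat_lit 46, nat_lit 91], nat_lit 0), ([nat_lit 151, nat_lit 46, nat_lit 151], nat_lit 0), ([nat_lit 136, nat_lit 46, nat_lit 136], nat_lit 0), ([nat_lit 76, nat_lit 106, nat_lit 181, nat_lit 76, nat_lit 106], nat_lit 0), ([nat_lit 181, nat_lit 46, nat_lit 181], nat_lit 0)]⟩,
  ⟨nat_lit 61, nat_lit 0, [([nat_lit 76], nat_lit 0), ([nat_lit 61, nat_lit 61], nat_lit 0)]⟩,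
  ⟨nat_lit 76, nat_lit 0, [([nat_lit 61], nat_lit 0), ([nat_lit 106, nat_lit 181, nat_lit 76, nat_lit 106, nat_lit 46], nat_lit 0), ([nat_lit 151, nat_lit 61, nat_lit 16], nat_lit 0), ([nat_lit 106, nat_lit 46, nat_lit 76, nat_lit 106, nat_lit 181], nat_lit 0), ([nat_lit 91, nat_lit 61, nat_lit 91, nat_lit 76, nat_lit 91, nat_lit 61, nat_lit 91], nat_lit 0), ([nat_lit 16, nat_lit 91, nat_lit 61, nat_lit 106, nat_lit 61, nat_lit 91, nat_lit 61, nat_lit 16], nat_lit 0)]⟩,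
  ⟨nat_lit 91, nat_lit 1, [([nat_lit 91], nat_lit 0), ([nat_lit 136, nat_lit 91, nat_lit 136], nat_lit 0), ([nat_lit 46, nat_lit 91, nat_lit 46], nat_lit 0), ([nat_lit 61, nat_lit 91, nat_lit 76, nat_lit 91, nat_lit 61, nat_lit 91, nat_lit 76], nat_lit 0), ([nat_lit 16, nat_lit 91, nat_lit 16, nat_lit 91, nat_lit 16], nat_lit 0), ([nat_lit 181, nat_lit 91, nat_lit 181, nat_lit 91, nat_lit 181], nat_lit 0), ([nat_lit 121, nat_lit 16, nat_lit 91, nat_lit 181, nat_lit 91, nat_lit 16, nat_lit 106], nat_lit 0), ([nat_lit 76, nat_lit 91, nat_lit 61, nat_lit 91, nat_lit 76, nat_lit 91, nat_lit 61], nat_lit 0)]⟩,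
  ⟨nat_lit 106, nat_lit 1, [([nat_lit 61, nat_lit 91, nat_lit 61, nat_lit 16, nat_lit 76, nat_lit 16, nat_lit 91, nat_lit 61], nat_lit 0), ([nat_lit 106, nat_lit 136], nat_lit 0), ([nat_lit 136, nat_lit 106], nat_lit 0), ([nat_lit 121], nat_lit 0), ([nat_lit 181, nat_lit 76, nat_lit 106, nat_lit 46, nat_lit 76], nat_lit 0), ([nat_lit 16, nat_lit 121, nat_lit 151], nat_lit 0), ([nat_lit 46, nat_lit 76, nat_lit 106, nat_lit 181, nat_lit 76], nat_lit 0)]⟩,
  ⟨nat_lit 121, nat_lit 1, [([nat_lit 106], nat_lit 0), ([nat_lit 151, nat_lit 106, nat_lit 16], nat_lit 0), ([nat_lit 16, nat_lit 91, nat_lit 181, nat_lit 91, nat_lit 16, nat_lit 106, nat_lit 91], nat_lit 0)]⟩,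
  ⟨nat_lit 136, nat_lit 1, [([nat_lit 106, nat_lit 106], nat_lit 0), ([nat_lit 136], nat_lit 0), ([nat_lit 91, nat_lit 136, nat_lit 91], nat_lit 0), ([nat_lit 16, nat_lit 136, nat_lit 16], nat_lit 0), ([nat_lit 181, nat_lit 136, nat_lit 181], nat_lit 0)]⟩,
  ⟨nat_lit 151, nat_lit 1, [([nat_lit 106, nat_lit 16, nat_lit 121], nat_lit 0), ([nat_lit 151], nat_lit 0), ([nat_lit 61, nat_lit 16, nat_lit 76], nat_lit 0), ([nat_lit 16, nat_lit 151, nat_lit 16], nat_lit 0), ([nat_lit 181, nat_lit 151, nat_lit 181], nat_lit 0)]⟩,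
  ⟨nat_lit 166, nat_lit 1, [([nat_lit 106, nat_lit 91, nat_lit 106, nat_lit 16, nat_lit 121, nat_lit 16, nat_lit 91], nat_lit 0), ([nat_lit 166], nat_lit 0), ([nat_lit 16, nat_lit 166, nat_lit 16], nat_lit 0), ([nat_lit 46, nat_lit 166, nat_lit 46], nat_lit 0), ([nat_lit 136, nat_lit 166, nat_lit 136], nat_lit 0), ([nat_lit 151, nat_lit 166, nat_lit 151], nat_lit 0)]⟩,
  ⟨nat_lit 181, nat_lit 1, [([nat_lit 181], nat_lit 0), ([nat_lit 16, nat_lit 181, nat_lit 16], nat_lit 0), ([nat_lit 136, nat_lit 181, nat_lit 136], nat_lit 0), ([nat_lit 76, nat_lit 106, nat_lit 46, nat_lit 76, nat_lit 106], nat_lit 0), ([nat_lit 91, nat_lit 16, nat_lit 106, nat_lit 91, nat_lit 121, nat_lit 16, nat_lit 91], nat_lit 0), ([nat_lit 46, nat_lit 181, nat_lit 46], nat_lit 0), ([nat_lit 91, nat_lit 181, nat_lit 91, nat_lit 181, nat_lit 91], nat_lit 0)]⟩]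

noncomputable def erots : List (List ℕ × ℕ) := []

noncomputable def gens : List ℕ := [nat_lit 16, nat_lit 46, nat_lit 61, nat_lit 76, nat_lit 91, nat_lit 106, nat_lit 121, nat_lit 136, nat_lit 151, nat_lit 166, nat_lit 181]

noncomputable def chk : ℕ → Bool := chkRow0 row (nat_lit 30) (nat_lit 0x1f) (nat_lit 0x7e0) (nat_lit 11) (nat_lit 0xf) (nat_lit 0) (nat_lit 0x1f) (nat_lit 5) (nat_lit 0xff) (nat_lit 0xe000) [] cols gens

theorem b0 : allR chk 5 0 = true := by decide +kernel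

noncomputable def T : CT := ⟨row, nat_lit 30, nat_lit 30, nat_lit 0x1f, nat_lit 0x7e0, nat_lit 11, nat_lit 0xf, nat_lit 0, nat_lit 0x1f, nat_lit 5, nat_lit 0xff, nat_lit 0xe000, nat_lit 196, nat_lit 196, nat_lit 0, nat_lit 9, [], cols, erots, gens⟩

theorem all : ∀ c < 30, chk c = true := fun c hc =>
  allR_glue (d := 5) (n := 1) (forall_lt_succ' forall_lt_zero' b0) c (lt_of_lt_of_le hc (by norm_num))

/-- the relators used -/
def R : List (List ℕ) := [[nat_lit 0, nat_lit 0],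
  [nat_lit 2, nat_lit 2],
  [nat_lit 3, nat_lit 4],
  [nat_lit 5, nat_lit 5],
  [nat_lit 6, nat_lit 7],
  [nat_lit 8, nat_lit 8],
  [nat_lit 9, nat_lit 9],
  [nat_lit 10, nat_lit 10],
  [nat_lit 11, nat_lit 11],
  [nat_lit 3, nat_lit 5, nat_lit 3, nat_lit 0, nat_lit 4, nat_lit 0, nat_lit 5, nat_lit 3, nat_lit 6],
  [nat_lit 6, nat_lit 6, nat_lit 8],
  [nat_lit 6, nat_lit 0, nat_lit 7, nat_lit 9],
  [nat_lit 6, nat_lit 5, nat_lit 6, nat_lit 0, nat_lit 7, nat_lit 0, nat_lit 5, nat_lit 10],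
  [nat_lit 5, nat_lit 0, nat_lit 6, nat_lit 5, nat_lit 7, nat_lit 0, nat_lit 5, nat_lit 11],
  [nat_lit 0, nat_lit 9, nat_lit 0, nat_lit 9],
  [nat_lit 2, nat_lit 0, nat_lit 2, nat_lit 0],
  [nat_lit 2, nat_lit 9, nat_lit 2, nat_lit 9],
  [nat_lit 8, nat_lit 0, nat_lit 8, nat_lit 0],
  [nat_lit 8, nat_lit 2, nat_lit 8, nat_lit 2],
  [nat_lit 10, nat_lit 0, nat_lit 10, nat_lit 0],
  [nat_lit 10, nat_lit 2, nat_lit 10, nat_lit 2],
  [nat_lit 10, nat_lit 8, nat_lit 10, nat_lit 8],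
  [nat_lit 10, nat_lit 9, nat_lit 10, nat_lit 9],
  [nat_lit 11, nat_lit 0, nat_lit 11, nat_lit 0],
  [nat_lit 11, nat_lit 2, nat_lit 11, nat_lit 2],
  [nat_lit 11, nat_lit 8, nat_lit 11, nat_lit 8],
  [nat_lit 11, nat_lit 9, nat_lit 11, nat_lit 9],
  [nat_lit 5, nat_lit 2, nat_lit 5, nat_lit 2],
  [nat_lit 5, nat_lit 8, nat_lit 5, nat_lit 8],
  [nat_lit 5, nat_lit 0, nat_lit 5, nat_lit 0, nat_lit 5, nat_lit 0],
  [nat_lit 5, nat_lit 11, nat_lit 5, nat_lit 11, nat_lit 5, nat_lit 11],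
  [nat_lit 3, nat_lit 3, nat_lit 3],
  [nat_lit 3, nat_lit 0, nat_lit 4, nat_lit 9],
  [nat_lit 2, nat_lit 4, nat_lit 6, nat_lit 11, nat_lit 4, nat_lit 6],
  [nat_lit 3, nat_lit 5, nat_lit 4, nat_lit 5, nat_lit 3, nat_lit 5, nat_lit 4, nat_lit 5]]

theorem cert : Cert T (R.map fun r => (r, 0)) ([0, 2, 5, 6, 7, 8, 9, 10, 11].map fun y => (y, 0)) 16 15 [0, 2, 3, 4, 5, 6, 7, 8, 9, 10, 11] :=
  ⟨by decide +kernel, ⟨[[(0, 0), (32, 1), (29, 1), (11, 1), (14, 0), (17, 1), (13, 1), (9, 5), (15, 1), (9, 3)], [(1, 0), (15, 0), (27, 1), (16, 0), (18, 1), (33, 0), (24, 1)], [(2, 0), (31, 0)], [(2, 1), (33, 1), (32, 2), (33, 4), (34, 2), (9, 4)], [(3, 0), (28, 0), (27, 0), (34, 3), (29, 0), (30, 0), (13, 3), (34, 1)], [(9, 8), (10, 0), (10, 1), (4, 0), (33, 2), (11, 0), (33, 5)], [(4, 1), (11, 2), (13, 4)], [(10, 2), (5, 0), (28, 1), (17, 0), (25, 1)], [(11, 3), (6, 0), (32, 3), (14, 1), (26, 1)], [(12, 7), (7, 0), (19,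 0), (20, 0), (21, 0), (22, 0)], [(8, 0), (23, 0), (25, 0), (33, 3), (13, 7), (24, 0), (30, 1)]], [], by decide +kernel⟩, by decide +kernel, Or.inl ⟨rfl, all⟩⟩

theorem bound {Γ : Type*} [Group Γ] {x : ℕ → Γ} (hR : ∀ r ∈ R, ev x r = 1) {n : ℕ}
    (h : CardLe x [0, 2, 5, 6, 7, 8, 9, 10, 11] n) : CardLe x [0, 2, 3, 4, 5, 6, 7, 8, 9, 10, 11] (30 * n) :=
  cert.cardLe rfl hR h

end Cfsg.Agent.H3.S62.Tc1
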