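import Cfsg.Agent.L0.CosetChain

/-! Generated coset table certificate. -/

set_option autoImplicit false
set_option maxRecDepth 100000

open Cfsg.Agent.L0

namespace Cfsg.Agent.H3.S62.Tc2

noncomputable def t0 : BT := .node (.leaf (nat_lit 0x27925a28423825a25a2130000004780002a6496442494c74ae6e8c850884e000000c6e000474a4c4ad4edcc494d8a64de4ed80000014d80012613d8a531a914b9a29092190058000001ba8002aca57100a00939843429737732400000033400021241e272654646664642282201000000050600064655c001c914018888914014844000000888000010a580808808808809118018010000000808000808000)) (.leaf (nat_lit 0x33c2ac28c25c27b55b21a00000025c00074c89727965765164b64d84d842a0000005160010f6d2d0850da0ea51289a1520030000000d2800189dc99ab418a24d3249b31431c4800000224800132b873))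

noncomputable def tree : BT := t0

noncomputable def row : ℕ → ℕ := rowOf tree (nat_lit 3) (nat_lit 7) (nat_lit 159) (nat_lit 0x7fffffffffffffffffffffffffffffffffffffff)

noncomputable def cols : List Col := [⟨nat_lit 15, nat_lit 1, [([nat_lit 15], nat_lit 0), ([nat_lit 99, nat_lit 123, nat_lit 87], nat_lit 0), ([nat_lit 123, nat_lit 15, nat_lit 123], nat_lit 0), ([nat_lit 135, nat_lit 15, nat_lit 135], nat_lit 0), ([nat_lit 147, nat_lit 15, nat_lit 147], nat_lit 0), ([nat_lit 75, nat_lit 15, nat_lit 75, nat_lit 15, nat_lit 75], nat_lit 0), ([nat_lit 99, nat_lit 15, nat_lit 75, nat_lit 135, nat_lit 87, nat_lit 75, nat_lit 87], nat_lit 0)]⟩,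
  ⟨nat_lit 39, nat_lit 1, [([nat_lit 75, nat_lit 39, nat_lit 75], nat_lit 0), ([nat_lit 15, nat_lit 39, nat_lit 15], nat_lit 0), ([nat_lit 135, nat_lit 39, nat_lit 135], nat_lit 0), ([nat_lit 123, nat_lit 39, nat_lit 123], nat_lit 0), ([nat_lit 147, nat_lit 39, nat_lit 147], nat_lit 0)]⟩,
  ⟨nat_lit 75, nat_lit 0, [([nat_lit 75], nat_lit 0), ([nat_lit 15, nat_lit 75, nat_lit 15, nat_lit 75, nat_lit 15], nat_lit 0), ([nat_lit 147, nat_lit 75, nat_lit 147, nat_lit 75, nat_lit 147], nat_lit 0)]⟩,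
  ⟨nat_lit 87, nat_lit 0, [([nat_lit 87, nat_lit 111], nat_lit 0), ([nat_lit 99], nat_lit 0), ([nat_lit 111, nat_lit 87], nat_lit 0), ([nat_lit 75, nat_lit 99, nat_lit 15, nat_lit 75, nat_lit 147, nat_lit 75, nat_lit 15], nat_lit 0)]⟩,
  ⟨nat_lit 99, nat_lit 0, [([nat_lit 87], nat_lit 0), ([nat_lit 123, nat_lit 87, nat_lit 15], nat_lit 0), ([nat_lit 15, nat_lit 75, nat_lit 135, nat_lit 87, nat_lit 75, nat_lit 87, nat_lit 15], nat_lit 0)]⟩,
  ⟨nat_lit 111, nat_lit 1, [([nat_lit 75, nat_lit 111, nat_lit 75], nat_lit 0), ([nat_lit 87, nat_lit 87], nat_lit 0), ([nat_lit 15, nat_lit 111, nat_lit 15], nat_lit 0), ([nat_lit 123, nat_lit 111, nat_lit 123], nat_lit 0), ([nat_lit 135, nat_lit 111, nat_lit 135], nat_lit 0), ([nat_lit 147, nat_lit 111, nat_lit 147], nat_lit 0)]⟩,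
  ⟨nat_lit 123, nat_lit 1, [([nat_lit 87, nat_lit 15, nat_lit 99], nat_lit 0), ([nat_lit 123], nat_lit 0), ([nat_lit 135, nat_lit 123, nat_lit 135], nat_lit 0)]⟩,
  ⟨nat_lit 135, nat_lit 1, [([nat_lit 87, nat_lit 75, nat_lit 87, nat_lit 15, nat_lit 99, nat_lit 15, nat_lit 75], nat_lit 0), ([nat_lit 135], nat_lit 0), ([nat_lit 15, nat_lit 135, nat_lit 15], nat_lit 0)]⟩,
  ⟨nat_lit 147, nat_lit 1, [([nat_lit 147], nat_lit 0), ([nat_lit 75, nat_lit 147, nat_lit 75, nat_lit 147, nat_lit 75], nat_lit 0), ([nat_lit 15, nat_lit 147, nat_lit 15], nat_lit 0), ([nat_lit 135, nat_lit 147, nat_lit 135], nat_lit 0)]⟩]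

noncomputable def erots : List (List ℕ × ℕ) := []

noncomputable def gens : List ℕ := [nat_lit 15, nat_lit 39, nat_lit 75, nat_lit 87, nat_lit 99, nat_lit 111, nat_lit 123, nat_lit 135, nat_lit 147]

noncomputable def chk : ℕ → Bool := chkRow0 row (nat_lit 12) (nat_lit 0xf) (nat_lit 0xf0) (nat_lit 8) (nat_lit 0xf) (nat_lit 0) (nat_lit 0xf) (nat_lit 4) (nat_lit 0xff) (nat_lit 0x7000) [] cols gens

theorem b0 : allR chk 4 0 = true := by decide +kernel

noncomputable def T : CT := ⟨row, nat_lit 12, nat_lit 12, nat_lit 0xf, nat_lit 0xf0, nat_lit 8, nat_lit 0xf, nat_lit 0, nat_lit 0xf, nat_lit 4, nat_lit 0xff, nat_lit 0x7000, nat_lit 159, nat_lit 159, nat_lit 0, nat_lit 8, [], cols, erots, gens⟩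

theorem all : ∀ c < 12, chk c = true := fun c hc =>
  allR_glue (d := 4) (n := 1) (forall_lt_succ' forall_lt_zero' b0) c (lt_of_lt_of_le hc (by norm_num))

/-- the relators used -/
def R : List (List ℕ) := [[nat_lit 0, nat_lit 0],
  [nat_lit 5, nat_lit 5],
  [nat_lit 6, nat_lit 7],
  [nat_lit 9, nat_lit 9],
  [nat_lit 10, nat_lit 10],
  [nat_lit 11, nat_lit 11],
  [nat_lit 6, nat_lit 6, nat_lit 8],
  [nat_lit 6, nat_lit 0, nat_lit 7, nat_lit 9],
  [nat_lit 6, nat_lit 5, nat_lit 6, nat_lit 0, nat_lit 7, nat_lit 0, nat_lit 5, nat_lit 10],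
  [nat_lit 5, nat_lit 0, nat_lit 6, nat_lit 5, nat_lit 7, nat_lit 0, nat_lit 5, nat_lit 11],
  [nat_lit 0, nat_lit 9, nat_lit 0, nat_lit 9],
  [nat_lit 2, nat_lit 0, nat_lit 2, nat_lit 0],
  [nat_lit 2, nat_lit 9, nat_lit 2, nat_lit 9],
  [nat_lit 8, nat_lit 0, nat_lit 8, nat_lit 0],
  [nat_lit 8, nat_lit 9, nat_lit 8, nat_lit 9],
  [nat_lit 10, nat_lit 0, nat_lit 10, nat_lit 0],
  [nat_lit 10, nat_lit 2, nat_lit 10, nat_lit 2],
  [nat_lit 10, nat_lit 8, nat_lit 10, nat_lit 8],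
  [nat_lit 10, nat_lit 9, nat_lit 10, nat_lit 9],
  [nat_lit 11, nat_lit 0, nat_lit 11, nat_lit 0],
  [nat_lit 11, nat_lit 2, nat_lit 11, nat_lit 2],
  [nat_lit 11, nat_lit 8, nat_lit 11, nat_lit 8],
  [nat_lit 11, nat_lit 10, nat_lit 11, nat_lit 10],
  [nat_lit 5, nat_lit 2, nat_lit 5, nat_lit 2],
  [nat_lit 5, nat_lit 8, nat_lit 5, nat_lit 8],
  [nat_lit 5, nat_lit 0, nat_lit 5, nat_lit 0, nat_lit 5, nat_lit 0],
  [nat_lit 5, nat_lit 11, nat_lit 5, nat_lit 11, nat_lit 5, nat_lit 11]]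

theorem cert : Cert T (R.map fun r => (r, 0)) ([0, 2, 8, 9, 10, 11].map fun y => (y, 0)) 15 12 [0, 2, 5, 6, 7, 8, 9, 10, 11] :=
  ⟨by decide +kernel, ⟨[[(0, 0), (7, 1), (10, 0), (15, 1), (19, 1), (25, 1), (8, 3)], [(23, 1), (11, 0), (16, 1), (12, 0), (20, 1)], [(1, 0), (25, 0), (26, 0)], [(6, 0), (2, 0), (6, 1), (9, 2)], [(2, 1), (7, 2), (8, 4)], [(24, 1), (6, 2), (13, 0), (14, 0), (17, 1), (21, 1)], [(7, 3), (3, 0), (18, 1)], [(8, 7), (4, 0), (15, 0)], [(5, 0), (26, 1), (19, 0), (22, 0)]], [], by decide +kernel⟩, by decide +kernel, Or.inl ⟨rfl, all⟩⟩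

theorem bound {Γ : Type*} [Group Γ] {x : ℕ → Γ} (hR : ∀ r ∈ R, ev x r = 1) {n : ℕ}
    (h : CardLe x [0, 2, 8, 9, 10, 11] n) : CardLe x [0, 2, 5, 6, 7, 8, 9, 10, 11] (12 * n) :=
  cert.cardLe rfl hR h

end Cfsg.Agent.H3.S62.Tc2
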