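import Cfsg.Agent.L0.CosetChain

/-! Generated coset table certificate. -/

set_option autoImplicit false
set_option maxRecDepth 100000

open Cfsg.Agent.L0

namespace Cfsg.Agent.H3.S62.Tc3

noncomputable def t0 : BT := .leaf (nat_lit 0x455a65a15700000000000016800168df1113691c772000000000000071c0071e7c24493851a24000000000000146001469f04084494568c000000000000514005167214453789136000000000000224002245f0007445a34d400000000000068c0068d72001805489110000000000001220012257800400c8100800000000000020400204000)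

noncomputable def tree : BT := t0

noncomputable def row : ℕ → ℕ := rowOf tree (nat_lit 3) (nat_lit 7) (nat_lit 134) (nat_lit 0x3fffffffffffffffffffffffffffffffff)

noncomputable def cols : List Col := [⟨nat_lit 14, nat_lit 1, [([nat_lit 94, nat_lit 14, nat_lit 94], nat_lit 0), ([nat_lit 114, nat_lit 14, nat_lit 114], nat_lit 0), ([nat_lit 124, nat_lit 14, nat_lit 124], nat_lit 0)]⟩,
  ⟨nat_lit 34, nat_lit 1, [([nat_lit 94, nat_lit 34, nat_lit 94], nat_lit 0), ([nat_lit 114, nat_lit 34, nat_lit 114], nat_lit 0), ([nat_lit 124, nat_lit 34, nat_lit 124], nat_lit 0)]⟩,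
  ⟨nat_lit 94, nat_lit 0, [([nat_lit 94], nat_lit 0), ([nat_lit 114, nat_lit 94, nat_lit 114], nat_lit 0), ([nat_lit 124, nat_lit 94, nat_lit 124], nat_lit 0)]⟩,
  ⟨nat_lit 104, nat_lit 1, [([nat_lit 94, nat_lit 104, nat_lit 94], nat_lit 0), ([nat_lit 114, nat_lit 104, nat_lit 114], nat_lit 0), ([nat_lit 124, nat_lit 104, nat_lit 124], nat_lit 0)]⟩,
  ⟨nat_lit 114, nat_lit 0, [([nat_lit 114], nat_lit 0), ([nat_lit 124, nat_lit 114, nat_lit 124], nat_lit 0)]⟩,
  ⟨nat_lit 124, nat_lit 0, [([nat_lit 124], nat_lit 0)]⟩]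

noncomputable def erots : List (List ℕ × ℕ) := []

noncomputable def gens : List ℕ := [nat_lit 14, nat_lit 34, nat_lit 94, nat_lit 104, nat_lit 114, nat_lit 124]

noncomputable def chk : ℕ → Bool := chkRow0 row (nat_lit 8) (nat_lit 0xf) (nat_lit 0x70) (nat_lit 7) (nat_lit 0x7) (nat_lit 0) (nat_lit 0xf) (nat_lit 4) (nat_lit 0xff) (nat_lit 0x3000) [] cols gens

theorem b0 : allR chk 3 0 = true := by decide +kernel

noncomputable def T : CT := ⟨row, nat_lit 8, nat_lit 8, nat_lit 0xf, nat_lit 0x70, nat_lit 7, nat_lit 0x7, nat_lit 0, nat_lit 0xf, nat_lit 4, nat_lit 0xff, nat_lit 0x3000, nat_lit 134, nat_lit 134, nat_lit 0, nat_lit 4, [], cols, erots, gens⟩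

theorem all : ∀ c < 8, chk c = true := fun c hc =>
  allR_glue (d := 3) (n := 1) (forall_lt_succ' forall_lt_zero' b0) c (lt_of_lt_of_le hc (by norm_num))

/-- the relators used -/
def R : List (List ℕ) := [[nat_lit 8, nat_lit 8],
  [nat_lit 10, nat_lit 10],
  [nat_lit 11, nat_lit 11],
  [nat_lit 8, nat_lit 0, nat_lit 8, nat_lit 0],
  [nat_lit 8, nat_lit 2, nat_lit 8, nat_lit 2],
  [nat_lit 8, nat_lit 9, nat_lit 8, nat_lit 9],
  [nat_lit 10, nat_lit 0, nat_lit 10, nat_lit 0],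
  [nat_lit 10, nat_lit 2, nat_lit 10, nat_lit 2],
  [nat_lit 10, nat_lit 8, nat_lit 10, nat_lit 8],
  [nat_lit 10, nat_lit 9, nat_lit 10, nat_lit 9],
  [nat_lit 11, nat_lit 0, nat_lit 11, nat_lit 0],
  [nat_lit 11, nat_lit 2, nat_lit 11, nat_lit 2],
  [nat_lit 11, nat_lit 8, nat_lit 11, nat_lit 8],
  [nat_lit 11, nat_lit 9, nat_lit 11, nat_lit 9],
  [nat_lit 11, nat_lit 10, nat_lit 11, nat_lit 10]]

theorem cert : Cert T (R.map fun r => (r, 0)) ([0, 2, 9].map fun y => (y, 0)) 14 10 [0, 2, 8, 9, 10, 11] :=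
  ⟨by decide +kernel, ⟨[[(3, 1), (6, 1), (10, 1)], [(4, 1), (7, 1), (11, 1)], [(0, 0), (8, 1), (12, 1)], [(5, 1), (9, 1), (13, 1)], [(1, 0), (14, 1)], [(2, 0)]], [], by decide +kernel⟩, by decide +kernel, Or.inl ⟨rfl, all⟩⟩

theorem bound {Γ : Type*} [Group Γ] {x : ℕ → Γ} (hR : ∀ r ∈ R, ev x r = 1) {n : ℕ}
    (h : CardLe x [0, 2, 9] n) : CardLe x [0, 2, 8, 9, 10, 11] (8 * n) :=
  cert.cardLe rfl hR h

end Cfsg.Agent.H3.S62.Tc3
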