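import Cfsg.Agent.H3.Mu.S62.Tab
import Cfsg.Agent.H3.Fld

/-! Generated vectors and matrices. -/

set_option autoImplicit false
set_option maxRecDepth 100000

open Cfsg.Agent.L0

namespace Cfsg.Agent.H3.S62

open Vec

noncomputable def Vt0 : BT := .leaf (nat_lit 0x3afbce3dec7ff938f54d3174d64544122ca2099e39a2961824d73cafdf1c2bdaeb34aa8b690c479c7587da6c6645081)

noncomputable def Vtree : BT := Vt0

noncomputable def V : ℕ → ℕ := rowOf Vtree (nat_lit 6) (nat_lit 63) (nat_lit 6) (nat_lit 0x3f)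

noncomputable def St0 : BT := .leaf (nat_lit 0x37f7af39fb6ed955d49c6d85da50f4d644e4258e17a48a07c72c9285183230bb3b2faadaf4d72c69a269f810230d040)

noncomputable def Stree : BT := St0

noncomputable def S : ℕ → ℕ := rowOf Stree (nat_lit 6) (nat_lit 63) (nat_lit 6) (nat_lit 0x3f)

/-- the format -/
abbrev P : Fm := ⟨2, 1, 1, 6⟩

def Cs : List (List ℕ) := [[nat_lit 0x1, nat_lit 0x2, nat_lit 0x4, nat_lit 0x9, nat_lit 0x10, nat_lit 0x20],
  [nat_lit 0x9, nat_lit 0x2, nat_lit 0x4, nat_lit 0x8, nat_lit 0x10, nat_lit 0x20],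
  [nat_lit 0x1, nat_lit 0x2, nat_lit 0x4, nat_lit 0xb, nat_lit 0x13, nat_lit 0x20],
  [nat_lit 0x2, nat_lit 0x4, nat_lit 0x1, nat_lit 0x10, nat_lit 0x20, nat_lit 0x8]]

def CU : List ℕ := [nat_lit 0x1, nat_lit 0x2, nat_lit 0x5, nat_lit 0x19, nat_lit 0x29, nat_lit 0x24]

def CW : List ℕ := [nat_lit 0x1, nat_lit 0x2, nat_lit 0x5, nat_lit 0x34, nat_lit 0x3d, nat_lit 0x25]

def CI : List ℕ := [nat_lit 0x1, nat_lit 0x2, nat_lit 0x4, nat_lit 0x8, nat_lit 0x10, nat_lit 0x20]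

def Bs : List ℕ := [nat_lit 0, nat_lit 1, nat_lit 2, nat_lit 3, nat_lit 14, nat_lit 30]

def Ss : List (List ℕ) := [[nat_lit 0x1, nat_lit 0x2, nat_lit 0x4, nat_lit 0x8, nat_lit 0x10, nat_lit 0x20]]

noncomputable def E : List ℕ → ℕ → ℕ → Bool := xE1

noncomputable def ok : ℕ → Bool := okL P

noncomputable def vchkf : ℕ → Bool := rowChk ok E Cs [nat_lit 0, nat_lit 1, nat_lit 2, nat_lit 3] V T (nat_lit 63)

noncomputable def schkf : ℕ → Bool := sortB V S (nat_lit 63)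

theorem vchkb0 : allR vchkf 6 0 = true := by decide +kernel
theorem schkb0 : allR schkf 6 0 = true := by decide +kernel

theorem vchk : ∀ c < 63, vchkf c = true := fun c hc =>
  allR_glue (d := 6) (n := 1) (forall_lt_succ' forall_lt_zero' vchkb0) c (lt_of_lt_of_le hc (by norm_num))

theorem schk : ∀ c < 63, schkf c = true := fun c hc =>
  allR_glue (d := 6) (n := 1) (forall_lt_succ' forall_lt_zero' schkb0) c (lt_of_lt_of_le hc (by norm_num))

theorem data : Vec.LineData P E Cs 4 63 T (nat_lit 42) Bs CU CI V :=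
  ⟨S, CW, nat_lit 0x3f, vchk, schk, by decide +kernel, by decide +kernel⟩

/-- the numbering of the coordinates -/
def e : Fin 3 ⊕ Fin 3 ≃ Fin P.n := finSumFinEquiv

/-- the matrices -/
noncomputable def M (i : ℕ) : Matrix (Fin 3 ⊕ Fin 3) (Fin 3 ⊕ Fin 3) (ZMod 2) := Vec.mat P e (1 : ZMod 2) (nthW Cs i)

theorem cod : Vec.AllCod P e (1 : ZMod 2) Cs 4 CU CI :=
  ⟨by decide +kernel, by decide +kernel, by decide +kernel⟩

theorem snd {F : Type*} [Field F] {φ : ZMod 2 →+* F} (h : Emb φ 2 1 (1 : ZMod 2)) :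
    Vec.SoundL P e (φ (1 : ZMod 2)) ⊤ E :=
  Vec.soundL_xE1 rfl (by exact_mod_cast h.char)

theorem model {F : Type*} [Field F] {φ : ZMod 2 →+* F} (h : Emb φ 2 1 (1 : ZMod 2))
    {G : Type*} [Group G] (ρ : G →* Matrix (Fin 3 ⊕ Fin 3) (Fin 3 ⊕ Fin 3) F) (hρ : Function.Injective ρ)
    (hz : ∀ z ∈ Subgroup.center G, ∃ a : F, ρ z = a • 1) (hg : ∀ i < 4, ∃ x, ρ x = (M i).map φ) :
    ∃ K : Subgroup (G ⧸ Subgroup.center G), Model K 63 4 T (nat_lit 42 :: Bs) :=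
  data.model' φ (by decide) (by decide) (by decide) h.indep (snd h) cod ρ hρ hz hg

end Cfsg.Agent.H3.S62
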